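import Mathlib.RingTheory.Polynomial.UniversalFactorizationRing
import Mathlib.RingTheory.Ideal.IdempotentFG
import Mathlib.RingTheory.Etale.Basic
import Mathlib.RingTheory.Localization.Away.Basic

/-!
Lifting along étale neighbourhoods of a closed subscheme: sections of étale algebras and
coprime monic factorizations.
-/
set_option autoImplicit false
universe u
open Polynomial

namespace Groth.Agent.EtLiftLib

variable {A : Type u} [CommRing A] (I : Ideal A)

/-- An unramified finite type algebra with a section modulo `I`: the kernel of the section is cut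
out by an element congruent to an idempotent. -/
theorem exists_mul_mem {B : Type u} [CommRing B] [Algebra A B] [Algebra.FormallyUnramified A B]
    [Algebra.FiniteType A B] (φ : B →ₐ[A] A ⧸ I) :
    ∃ u : B, φ u = 1 ∧ ∀ j : B, φ j = 0 → u * j ∈ I.map (algebraMap A B) := by
  classical
  set IB := I.map (algebraMap A B) with hIB
  set J := RingHom.ker φ with hJ
  obtain ⟨s, hs⟩ := Algebra.FiniteType.out (R := A) (A := B)
  choose a ha using fun b : B => Ideal.Quotient.mk_surjective (φ b)
  have hIJ : IB ≤ J := by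
    rw [hIB, Ideal.map_le_iff_le_comap]
    intro x hx
    rw [Ideal.mem_comap, hJ, RingHom.mem_ker, AlgHom.commutes, Ideal.Quotient.algebraMap_eq]
    exact Ideal.Quotient.eq_zero_iff_mem.2 hx
  set J₀ : Ideal B := Ideal.span ((fun b => b - algebraMap A B (a b)) '' (s : Set B)) with hJ₀
  have hJ₀J : J₀ ≤ J := by
    rw [hJ₀, Ideal.span_le]
    rintro _ ⟨b, -, rfl⟩
    rw [SetLike.mem_coe, hJ, RingHom.mem_ker, map_sub, AlgHom.commutes, Ideal.Quotient.algebraMap_eq,
      ha, sub_self]
  have hgen : ∀ b : B, ∃ c : A, b - algebraMap A B c ∈ J₀ := fun b => by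
    induction (hs.ge (Algebra.mem_top (x := b))) using Algebra.adjoin_induction with
    | mem x hx => exact ⟨a x, Ideal.subset_span ⟨x, hx, rfl⟩⟩
    | algebraMap r => exact ⟨r, by simp⟩
    | add x y _ _ hx hy =>
      obtain ⟨c, hc⟩ := hx; obtain ⟨d, hd⟩ := hy
      exact ⟨c + d, by rw [map_add, add_sub_add_comm]; exact add_mem hc hd⟩
    | mul x y _ _ hx hy =>
      obtain ⟨c, hc⟩ := hx; obtain ⟨d, hd⟩ := hy
      refine ⟨c * d, ?_⟩
      rw [map_mul, show x * y - algebraMap A B c * algebraMap A B d =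
        (x - algebraMap A B c) * y + algebraMap A B c * (y - algebraMap A B d) by ring]
      exact add_mem (Ideal.mul_mem_right _ _ hc) (Ideal.mul_mem_left _ _ hd)
  have hJle : J ≤ IB ⊔ J₀ := fun b hb => by
    obtain ⟨c, hc⟩ := hgen b
    have hcI : c ∈ I := by
      have := hJ₀J hc
      rw [hJ, RingHom.mem_ker, map_sub, RingHom.mem_ker.1 hb, AlgHom.commutes, zero_sub, neg_eq_zero,
        Ideal.Quotient.algebraMap_eq] at this
      exact Ideal.Quotient.eq_zero_iff_mem.1 this
    rw [← sub_add_cancel b (algebraMap A B c)]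
    exact add_mem (Ideal.mem_sup_right hc) (Ideal.mem_sup_left (Ideal.mem_map_of_mem _ hcI))
  set K : Ideal B := IB ⊔ J * J with hK
  have hsq : (J.map (Ideal.Quotient.mk K)) ^ 2 = ⊥ := by
    rw [← Ideal.map_pow, sq, Ideal.map_eq_bot_iff_le_ker, Ideal.mk_ker]
    exact le_sup_right
  have hIK : ∀ x ∈ I, Algebra.ofId A (B ⧸ K) x = 0 := fun x hx => by
    rw [Algebra.ofId_apply, IsScalarTower.algebraMap_apply A B (B ⧸ K), Ideal.Quotient.algebraMap_eq]
    exact Ideal.Quotient.eq_zero_iff_mem.2 (Ideal.mem_sup_left (Ideal.mem_map_of_mem _ hx))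
  let g : B →ₐ[A] B ⧸ K := (Ideal.Quotient.liftₐ I (Algebra.ofId A _) hIK).comp φ
  have hg : g = Ideal.Quotient.mkₐ A K := by
    refine Algebra.FormallyUnramified.comp_injective _ hsq ?_
    refine AlgHom.ext fun b => ?_
    obtain ⟨c, hc⟩ := hgen b
    show Ideal.Quotient.mk _ (g b) = Ideal.Quotient.mk _ (Ideal.Quotient.mk K b)
    have hgb : g b = Ideal.Quotient.mk K (algebraMap A B c) := by
      have : φ b = Ideal.Quotient.mk I c := by
        have := hJ₀J hc
        rwa [hJ, RingHom.mem_ker, map_sub, sub_eq_zero, AlgHom.commutes] at this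
      show (Ideal.Quotient.liftₐ I (Algebra.ofId A (B ⧸ K)) hIK) (φ b) = _
      rw [this]
      rfl
    rw [hgb, Ideal.Quotient.eq, ← map_sub]
    exact Ideal.mem_map_of_mem _ (by rw [← neg_sub]; exact J.neg_mem (hJ₀J hc))
  have hJK : J ≤ K := fun b hb => by
    have h := AlgHom.congr_fun hg b
    rw [AlgHom.comp_apply, RingHom.mem_ker.1 hb, map_zero, Ideal.Quotient.mkₐ_eq_mk] at h
    exact Ideal.Quotient.eq_zero_iff_mem.1 h.symm
  set Jb : Ideal (B ⧸ IB) := J.map (Ideal.Quotient.mk IB) with hJb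
  have hfg : Jb.FG := by
    have : Jb = J₀.map (Ideal.Quotient.mk IB) := by
      refine le_antisymm ?_ (Ideal.map_mono hJ₀J)
      refine (Ideal.map_mono hJle).trans ?_
      rw [Ideal.map_sup, Ideal.map_quotient_self, bot_sup_eq]
    rw [this]
    exact Ideal.FG.map ⟨s.image (fun b => b - algebraMap A B (a b)), by rw [Finset.coe_image]⟩ _
  have hidem : IsIdempotentElem Jb := by
    refine le_antisymm Ideal.mul_le_left ?_
    rw [← Ideal.map_mul]
    refine (Ideal.map_mono hJK).trans ?_
    rw [Ideal.map_sup, Ideal.map_quotient_self, bot_sup_eq]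
  obtain ⟨e, he, heJ⟩ := (Ideal.isIdempotentElem_iff_of_fg Jb hfg).1 hidem
  have hemem : e ∈ Jb := heJ ▸ Submodule.mem_span_singleton_self e
  obtain ⟨e₀, he₀, rfl⟩ := (Ideal.mem_map_iff_of_surjective _ Ideal.Quotient.mk_surjective).1 hemem
  refine ⟨1 - e₀, by rw [map_sub, map_one, RingHom.mem_ker.1 he₀, sub_zero], fun j hj => ?_⟩
  have hj' : Ideal.Quotient.mk IB j ∈ Jb := Ideal.mem_map_of_mem _ (RingHom.mem_ker.2 hj)
  rw [heJ, Ideal.submodule_span_eq, Ideal.mem_span_singleton'] at hj'
  obtain ⟨r, hr⟩ := hj'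
  rw [← Ideal.Quotient.eq_zero_iff_mem, map_mul, map_sub, map_one, ← hr,
    show (1 - Ideal.Quotient.mk IB e₀) * (r * Ideal.Quotient.mk IB e₀) =
      r * ((1 - Ideal.Quotient.mk IB e₀) * Ideal.Quotient.mk IB e₀) by ring,
    sub_mul, one_mul, he.eq, sub_self, mul_zero]

/-- A section modulo `I` of an étale algebra gives an étale neighbourhood of `Spec (A/I)`. -/
theorem exists_etale_nhd {B : Type u} [CommRing B] [Algebra A B] [Algebra.Etale A B]
    (φ : B →ₐ[A] A ⧸ I) :
    ∃ (A' : Type u) (_ : CommRing A') (_ : Algebra A A'), Algebra.Etale A A' ∧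
      Function.Bijective (algebraMap (A ⧸ I) (A' ⧸ I.map (algebraMap A A'))) ∧
      ∃ η : B →ₐ[A] A', ∀ b : B, Ideal.Quotient.mk (I.map (algebraMap A A')) (η b) =
        algebraMap (A ⧸ I) (A' ⧸ I.map (algebraMap A A')) (φ b) := by
  obtain ⟨u, hu, hmem⟩ := exists_mul_mem I φ
  set A' := Localization.Away u
  set IA' := I.map (algebraMap A A') with hIA'
  have hη : ∀ b : B, Ideal.Quotient.mk IA' (algebraMap B A' b) =
      algebraMap (A ⧸ I) (A' ⧸ IA') (φ b) := fun b => by
    obtain ⟨c, hc⟩ := Ideal.Quotient.mk_surjective (φ b)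
    rw [← hc]
    show _ = Ideal.Quotient.mk IA' (algebraMap A A' c)
    rw [Ideal.Quotient.eq, IsScalarTower.algebraMap_apply A B A', ← map_sub,
      ← Ideal.unit_mul_mem_iff_mem IA' (IsLocalization.Away.algebraMap_isUnit (S := A') u),
      ← map_mul]
    have h := Ideal.mem_map_of_mem (algebraMap B A') (hmem (b - algebraMap A B c) (by
      rw [map_sub, AlgHom.commutes, Ideal.Quotient.algebraMap_eq, hc, sub_self]))
    rwa [Ideal.map_map, ← IsScalarTower.algebraMap_eq] at h
  have : Algebra.Etale B A' := Algebra.Etale.of_isLocalizationAway u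
  refine ⟨A', inferInstance, inferInstance, Algebra.Etale.comp A B A', ⟨?_, ?_⟩,
    IsScalarTower.toAlgHom A B A', hη⟩
  · let ψ : A' →+* A ⧸ I := IsLocalization.Away.lift u
      (g := (φ : B →+* A ⧸ I)) (by rw [AlgHom.coe_toRingHom, hu]; exact isUnit_one)
    have hψ : ∀ c : A, ψ (algebraMap A A' c) = Ideal.Quotient.mk I c := fun c => by
      rw [IsScalarTower.algebraMap_apply A B A', IsLocalization.Away.lift_eq,
        AlgHom.coe_toRingHom, AlgHom.commutes]
      rfl
    have hψI : ∀ x ∈ IA', ψ x = 0 := by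
      intro x hx
      have h := Ideal.mem_map_of_mem ψ hx
      rw [hIA', Ideal.map_map, show ψ.comp (algebraMap A A') = Ideal.Quotient.mk I from
        RingHom.ext hψ, Ideal.map_quotient_self, Ideal.mem_bot] at h
      exact h
    intro x y hxy
    obtain ⟨x, rfl⟩ := Ideal.Quotient.mk_surjective x
    obtain ⟨y, rfl⟩ := Ideal.Quotient.mk_surjective y
    have h : Ideal.Quotient.mk IA' (algebraMap A A' x) = Ideal.Quotient.mk IA' (algebraMap A A' y) :=
      hxy
    rw [Ideal.Quotient.eq] at h
    have := hψI _ h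
    rwa [map_sub, hψ, hψ, sub_eq_zero] at this
  · intro x
    obtain ⟨x, rfl⟩ := Ideal.Quotient.mk_surjective x
    obtain ⟨n, b, hb⟩ := IsLocalization.Away.surj u x
    refine ⟨φ b, ?_⟩
    rw [← hη, ← hb, map_mul, map_pow, hη u, hu, map_one, one_pow, mul_one]

/-- Coprime monic factorizations modulo `I` lift to an étale neighbourhood. -/
theorem exists_etale_lift_coprime (f : A[X]) (hf : f.Monic) (g h : (A ⧸ I)[X]) (hg : g.Monic)
    (hh : h.Monic) (hcop : IsCoprime g h) (hfgh : f.map (Ideal.Quotient.mk I) = g * h) :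
    ∃ (A' : Type u) (_ : CommRing A') (_ : Algebra A A'), Algebra.Etale A A' ∧
      Function.Bijective (algebraMap (A ⧸ I) (A' ⧸ I.map (algebraMap A A'))) ∧
      ∃ g' h' : A'[X], g'.Monic ∧ h'.Monic ∧ f.map (algebraMap A A') = g' * h' ∧
        IsCoprime g' h' ∧
        g'.map (Ideal.Quotient.mk (I.map (algebraMap A A'))) =
          g.map (algebraMap (A ⧸ I) (A' ⧸ I.map (algebraMap A A'))) ∧
        h'.map (Ideal.Quotient.mk (I.map (algebraMap A A'))) =
          h.map (algebraMap (A ⧸ I) (A' ⧸ I.map (algebraMap A A'))) := by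
  rcases subsingleton_or_nontrivial (A ⧸ I) with hs | hs
  · refine ⟨A, inferInstance, inferInstance, inferInstance, ⟨fun x y _ => Subsingleton.elim x y,
      fun x => ?_⟩, f, 1, hf, monic_one, by simp, isCoprime_one_right, ?_, ?_⟩
    · obtain ⟨x, rfl⟩ := Ideal.Quotient.mk_surjective x
      exact ⟨Ideal.Quotient.mk I x, rfl⟩
    all_goals
      have : Subsingleton (A ⧸ I.map (algebraMap A A)) := subsingleton_of_zero_eq_one (by
        rw [← map_zero (algebraMap (A ⧸ I) _), ← map_one (algebraMap (A ⧸ I) _),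
          Subsingleton.elim (0 : A ⧸ I) 1])
      exact Subsingleton.elim _ _
  · set m := g.natDegree
    set k := h.natDegree
    have hdeg : f.natDegree = m + k := by
      rw [← hf.natDegree_map (Ideal.Quotient.mk I), hfgh, hg.natDegree_mul hh]
    let p : MonicDegreeEq A (m + k) := MonicDegreeEq.mk f hf hdeg
    let φ : UniversalCoprimeFactorizationRing m k rfl p →ₐ[A] A ⧸ I :=
      (UniversalCoprimeFactorizationRing.homEquiv (A ⧸ I) m k rfl p).symm
        ⟨(MonicDegreeEq.mk g hg rfl, MonicDegreeEq.mk h hh rfl), hfgh.symm, hcop⟩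
    have hφ := (UniversalCoprimeFactorizationRing.homEquiv (A ⧸ I) m k rfl p).apply_symm_apply
      ⟨(MonicDegreeEq.mk g hg rfl, MonicDegreeEq.mk h hh rfl), hfgh.symm, hcop⟩
    obtain ⟨A', _, _, het, hbij, η, hη⟩ := exists_etale_nhd I φ
    set q := UniversalCoprimeFactorizationRing.homEquiv A' m k rfl p η
    have hηφ : (Ideal.Quotient.mkₐ A (I.map (algebraMap A A'))).comp η =
        (IsScalarTower.toAlgHom A (A ⧸ I) (A' ⧸ I.map (algebraMap A A'))).comp φ := AlgHom.ext hη
    refine ⟨A', inferInstance, inferInstance, het, hbij, q.1.1.1, q.1.2.1, q.1.1.monic, q.1.2.monic,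
      q.2.1.symm, q.2.2, ?_, ?_⟩
    · have h := UniversalCoprimeFactorizationRing.homEquiv_comp_fst (S := A') m k rfl p η
        (Ideal.Quotient.mkₐ A (I.map (algebraMap A A')))
      rw [hηφ, UniversalCoprimeFactorizationRing.homEquiv_comp_fst, hφ] at h
      exact (congrArg Subtype.val h).symm
    · have h := UniversalCoprimeFactorizationRing.homEquiv_comp_snd (S := A') m k rfl p η
        (Ideal.Quotient.mkₐ A (I.map (algebraMap A A')))
      rw [hηφ, UniversalCoprimeFactorizationRing.homEquiv_comp_snd, hφ] at h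
      exact (congrArg Subtype.val h).symm

end Groth.Agent.EtLiftLib
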