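import Groth.Agent.EtLiftLib.Basic
import Mathlib.LinearAlgebra.Matrix.Charpoly.Coeff
import Mathlib.LinearAlgebra.Matrix.ToLin
import Mathlib.LinearAlgebra.TensorProduct.Pi
import Mathlib.Algebra.Module.Projective
import Mathlib.RingTheory.Finiteness.Cardinality

/-!
Lifting idempotent matrices along étale neighbourhoods of a closed subscheme.
-/
set_option autoImplicit false
universe u
open Polynomial TensorProduct

namespace Groth.Agent.EtLiftLib

/-- The base change of the image of an idempotent is the image of the base changed idempotent. -/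
theorem baseChange_range_equiv {R S : Type u} [CommRing R] [CommRing S] [Algebra R S] {P : Type u}
    [AddCommGroup P] [Module R P] {n : ℕ} (π : (Fin n → R) →ₗ[R] P) (s : P →ₗ[R] (Fin n → R))
    (hs : ∀ x, π (s x) = x) :
    Nonempty ((S ⊗[R] P) ≃ₗ[S] LinearMap.range (Matrix.toLin'
      ((LinearMap.toMatrix' (s ∘ₗ π)).map (algebraMap R S)))) := by
  let β : S ⊗[R] (Fin n → R) ≃ₗ[S] (Fin n → S) := TensorProduct.piScalarRight R S S (Fin n)
  let i : S ⊗[R] P →ₗ[S] (Fin n → S) := β.toLinearMap ∘ₗ s.baseChange S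
  have hret : ∀ x, π.baseChange S (s.baseChange S x) = x := fun x => by
    rw [← LinearMap.comp_apply, ← LinearMap.baseChange_comp,
      show π ∘ₗ s = LinearMap.id from LinearMap.ext hs, LinearMap.baseChange_id, LinearMap.id_apply]
  have hinj : Function.Injective i := fun x y h => by
    rw [← hret x, ← hret y, β.injective h]
  have hsurj : Function.Surjective (π.baseChange S ∘ₗ β.symm.toLinearMap) := fun x =>
    ⟨i x, by simp [i, hret]⟩
  have hcomp : i ∘ₗ (π.baseChange S ∘ₗ β.symm.toLinearMap) =
      Matrix.toLin' ((LinearMap.toMatrix' (s ∘ₗ π)).map (algebraMap R S)) := by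
    refine LinearMap.pi_ext' fun j => LinearMap.ext_ring ?_
    have hb : β.symm (Pi.single j 1) = (1 : S) ⊗ₜ[R] Pi.single j (1 : R) :=
      TensorProduct.piScalarRight_symm_single R S S (Fin n) 1 j
    simp only [LinearMap.comp_apply, LinearMap.single_apply, LinearEquiv.coe_coe]
    rw [hb, LinearMap.baseChange_tmul, Matrix.toLin'_apply, Matrix.mulVec_single_one]
    simp only [i, LinearMap.comp_apply, LinearEquiv.coe_coe, LinearMap.baseChange_tmul]
    funext k
    simp [β, Algebra.smul_def, LinearMap.toMatrix'_apply]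
  have hrange : LinearMap.range i =
      LinearMap.range (Matrix.toLin' ((LinearMap.toMatrix' (s ∘ₗ π)).map (algebraMap R S))) := by
    rw [← hcomp, LinearMap.range_comp_of_range_eq_top _ (LinearMap.range_eq_top.2 hsurj)]
  exact ⟨(LinearEquiv.ofInjective i hinj).trans (LinearEquiv.ofEq _ _ hrange)⟩

/-- An idempotent matrix modulo `I` lifts to an idempotent matrix on an étale neighbourhood. -/
theorem exists_idem_lift {A : Type u} [CommRing A] (I : Ideal A) {n : ℕ}
    (E : Matrix (Fin n) (Fin n) (A ⧸ I)) (hE : E * E = E) :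
    ∃ (A' : Type u) (_ : CommRing A') (_ : Algebra A A'), Algebra.Etale A A' ∧
      Function.Bijective (algebraMap (A ⧸ I) (A' ⧸ I.map (algebraMap A A'))) ∧
      ∃ e : Matrix (Fin n) (Fin n) A', e * e = e ∧
        e.map (Ideal.Quotient.mk (I.map (algebraMap A A'))) =
          E.map (algebraMap (A ⧸ I) (A' ⧸ I.map (algebraMap A A'))) := by
  choose M hM using fun i j => Ideal.Quotient.mk_surjective (E i j)
  set M₀ : Matrix (Fin n) (Fin n) A := Matrix.of M
  have hM₀ : M₀.map (Ideal.Quotient.mk I) = E := Matrix.ext hM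
  set N := M₀ * M₀ - M₀
  set q := N.charpoly
  set F : A[X] := (X * q).comp (X ^ 2 - X)
  have hFm : F.Monic := by
    nontriviality A
    refine (monic_X.mul N.charpoly_monic).comp (monic_X_pow_sub (by simp)) ?_
    rw [natDegree_sub_eq_left_of_natDegree_lt (by simp)]
    simp
  have hFz : aeval M₀ F = 0 := by
    rw [aeval_comp, show aeval M₀ (X ^ 2 - X : A[X]) = N by simp [N, pow_two], map_mul,
      Matrix.aeval_self_charpoly, mul_zero]
  have hq : q.map (Ideal.Quotient.mk I) = X ^ n := by
    rw [← Matrix.charpoly_map, show N.map (Ideal.Quotient.mk I) = 0 by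
      rw [Matrix.map_sub _ (map_sub _), Matrix.map_mul, hM₀, hE, sub_self], Matrix.charpoly_zero,
      Fintype.card_fin]
  have hFI : F.map (Ideal.Quotient.mk I) = X ^ (n + 1) * (X - 1) ^ (n + 1) := by
    rw [Polynomial.map_comp, Polynomial.map_mul, hq, map_X, Polynomial.map_sub, Polynomial.map_pow,
      map_X, ← pow_succ', pow_comp, X_comp, show (X ^ 2 - X : (A ⧸ I)[X]) = X * (X - 1) by ring,
      mul_pow]
  have hcop : IsCoprime (X : (A ⧸ I)[X]) (X - 1) := ⟨1, -1, by ring⟩
  obtain ⟨A', _, _, het, hbij, g', h', -, -, hF', ⟨a, b, hab⟩, hg', hh'⟩ :=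
    exists_etale_lift_coprime I F hFm (X ^ (n + 1)) ((X - 1) ^ (n + 1)) (monic_X.pow _)
      ((monic_X_sub_C (1 : A ⧸ I)).pow _) hcop.pow hFI
  refine ⟨A', inferInstance, inferInstance, het, hbij, ?_⟩
  set M' := M₀.map (algebraMap A A')
  set e := aeval M' (a * g')
  have hzero : aeval M' (g' * h') = 0 := by
    rw [← hF', aeval_map_algebraMap]
    have h := aeval_algHom_apply ((Algebra.ofId A A').mapMatrix : Matrix (Fin n) (Fin n) A →ₐ[A] _)
      M₀ F
    rw [hFz, map_zero] at h
    exact h
  have hone : e + aeval M' (b * h') = 1 := by rw [← map_add, hab, map_one]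
  have hee : e * e = e := by
    have h0 : e * aeval M' (b * h') = 0 := by
      rw [← map_mul, show a * g' * (b * h') = a * b * (g' * h') by ring, map_mul, hzero, mul_zero]
    calc e * e = e * e + e * aeval M' (b * h') := by rw [h0, add_zero]
      _ = e := by rw [← mul_add, hone, mul_one]
  refine ⟨e, hee, ?_⟩
  set Q := A' ⧸ I.map (algebraMap A A')
  set ρ := algebraMap (A ⧸ I) Q
  set π := Ideal.Quotient.mk (I.map (algebraMap A A'))
  set E' := E.map ρ
  have hM' : π.mapMatrix M' = E' := by
    refine Matrix.ext fun i j => ?_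
    show π (algebraMap A A' (M i j)) = ρ (E i j)
    rw [← hM i j]
    rfl
  have hE' : E' * E' = E' := by rw [← Matrix.map_mul, hE]
  have hEp : ∀ k, E' ^ (k + 1) = E' := fun k => by
    induction k with
    | zero => simp
    | succ k ih => rw [pow_succ, ih, hE']
  have key : ∀ r : A'[X], π.mapMatrix (aeval M' r) = aeval E' (r.map π) := fun r => by
    rw [show r.map π = r.map (algebraMap A' Q) from rfl, aeval_map_algebraMap, ← hM']
    exact (aeval_algHom_apply ((Ideal.Quotient.mkₐ A' _).mapMatrix :
      Matrix (Fin n) (Fin n) A' →ₐ[A'] _) M' r).symm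
  have h1 : e.map π = aeval E' (a.map π) * E' := by
    rw [← RingHom.mapMatrix_apply, key, Polynomial.map_mul, hg', Polynomial.map_pow, map_X, map_mul,
      map_pow, aeval_X, hEp]
  have h2 : 1 - e.map π = aeval E' (b.map π) * (E' - 1) ^ (n + 1) := by
    have := congrArg π.mapMatrix hone
    rw [map_add, map_one, RingHom.mapMatrix_apply, RingHom.mapMatrix_apply] at this
    rw [show 1 - e.map π = (aeval M' (b * h')).map π by rw [← this, add_sub_cancel_left],
      ← RingHom.mapMatrix_apply, key, Polynomial.map_mul, hh',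
      Polynomial.map_pow, Polynomial.map_sub, map_X, Polynomial.map_one, map_mul, map_pow, map_sub,
      aeval_X, map_one]
  have h3 : e.map π * E' = e.map π := by rw [h1, mul_assoc, hE']
  have h4 : (1 - e.map π) * E' = 0 := by
    rw [h2, pow_succ, mul_assoc, mul_assoc, sub_mul, one_mul, hE', sub_self, mul_zero, mul_zero]
  rw [sub_mul, one_mul, h3, sub_eq_zero] at h4
  exact h4.symm

end Groth.Agent.EtLiftLib
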